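import Mathlib
import Cfsg.Agent.TcChain36.Out.LM22.Syl

set_option autoImplicit false
set_option maxRecDepth 1000000
set_option linter.all false

namespace Cfsg.Agent.TcChain36.Out.LM22

open Cfsg.Agent.Lib.OutTree36

set_option Elab.async false

open Cfsg.Agent.TcData.LM22.I126 Cfsg.Agent.TcData.LM22 Cfsg.Agent.TcChain36.LM22

/-- The candidates of a coset. -/
def cd0 : CT :=
  (.nd (.nd (.nd (.nd (.lf (.inD [2, 3])) (.nd (.lf (.inD [2, 1, 0, 4, 5, 6, 2, 1, 5, 4])) (.lf (.wit [6, 2, 1] [57, 57])))) (.nd (.nd (.lf (.inD [2, 1, 0, 3, 2, 4, 5, 6, 2, 3])) (.lf (.wit [6, 2, 1] [57, 57]))) (.nd (.lf (.wit [1, 4] [57, 57])) (.lf (.wit [6, 2, 1] [57, 57]))))) (.nd (.nd (.nd (.lf (.inD [2, 1, 0, 4, 5, 6, 2, 1, 0, 4])) (.lf (.wit [3, 6] [57, 57]))) (.nd (.lf (.wit [1, 4] [57, 57])) (.lf (.wit [6, 2, 1] [57, 57])))) (.nd (.nd (.lf (.wit [3, 6] [57, 57])) (.lf (.wit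 [6, 2, 1] [57, 57]))) (.nd (.lf (.wit [3, 6] [57, 57])) (.lf (.wit [1, 4] [57, 57])))))) (.nd (.nd (.nd (.nd (.lf (.inD [2, 3, 6, 2, 5, 6])) (.lf (.wit [3, 6] [57, 57]))) (.nd (.lf (.wit [1, 4] [57, 57])) (.lf (.wit [6, 2, 1] [57, 57])))) (.nd (.nd (.lf (.wit [4, 6] [57, 57])) (.lf (.wit [6, 2, 1] [57, 57]))) (.nd (.lf (.wit [3, 6] [57, 57])) (.lf (.wit [1, 4] [57, 57]))))) (.nd (.nd (.nd (.lf (.wit [4, 6] [57, 57])) (.lf (.wit [1, 4] [57, 57]))) (.nd (.lf (.wit [1, 4] [57, 57])) (.lf (.wit [6, 2, 1] [57, 57])))) (.nd (.nd (.lf (.wit [1, 4] [90, 57])) (.lf (.wit [6, 2, 1] [57, 57]))) (.nd (.lf (.wit [1, 4] [57, 57])) (.lf (.inD [2, 1, 0, 3, 2, 1])))))))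

theorem k0 : chkCand DD ap iv bsL 3 126 [2, 3] cd0 0 = true := by decide +kernel

/-- The candidates of a coset. -/
def cd1 : CT :=
  (.nd (.nd (.nd (.nd (.nd (.lf (.wit [5, 4] [57, 57])) (.lf (.wit [5, 4] [57, 57]))) .nil) (.nd .nil (.nd (.lf (.wit [5, 4] [57, 57])) (.lf (.wit [5, 4] [57, 57]))))) .nil) (.nd .nil (.nd (.nd (.nd (.lf (.wit [5, 4] [57, 57])) (.lf (.wit [5, 4] [57, 57]))) .nil) (.nd .nil (.nd (.lf (.wit [5, 4] [57, 57])) (.lf (.wit [5, 4] [57, 57])))))))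

theorem k1 : chkCand DD ap iv bsL 3 126 [2, 3] cd1 1 = true := by decide +kernel

/-- The candidates of a coset. -/
def cd2 : CT :=
  (.nd (.nd (.nd (.nd (.nd (.lf (.wit [5, 4] [57, 57])) (.lf (.wit [1, 4] [57, 57]))) .nil) .nil) (.nd (.nd .nil (.nd (.lf (.wit [1, 4] [57, 57])) (.lf (.wit [6, 2, 1] [57, 57])))) .nil)) (.nd (.nd .nil (.nd (.nd (.lf (.wit [5, 4] [57, 57])) (.lf (.wit [1, 4] [57, 57]))) .nil)) (.nd .nil (.nd .nil (.nd (.lf (.wit [1, 4] [57, 57])) (.lf (.wit [6, 5] [57, 57])))))))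

theorem k2 : chkCand DD ap iv bsL 3 126 [2, 3] cd2 2 = true := by decide +kernel

/-- The candidates of a coset. -/
def cd3 : CT :=
  (.nd (.nd (.nd (.nd (.nd (.lf (.wit [6, 5] [57, 57])) (.lf (.wit [6, 5] [57, 57]))) .nil) .nil) (.nd .nil (.nd (.nd (.lf (.wit [6, 5] [57, 57])) (.lf (.wit [6, 5] [57, 57]))) .nil))) (.nd (.nd (.nd .nil (.nd (.lf (.wit [6, 5] [57, 57])) (.lf (.wit [6, 5] [57, 57])))) .nil) (.nd .nil (.nd .nil (.nd (.lf (.wit [6, 5] [57, 57])) (.lf (.wit [6, 5] [57, 57])))))))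

theorem k3 : chkCand DD ap iv bsL 3 126 [2, 3] cd3 3 = true := by decide +kernel

/-- The candidates of a coset. -/
def cd4 : CT :=
  (.nd (.nd (.nd (.nd (.lf (.wit [6, 5] [57, 57])) (.lf (.wit [6, 2, 1] [57, 57]))) (.nd (.lf (.wit [6, 2, 1] [57, 57])) (.lf (.wit [6, 2, 1] [57, 57])))) .nil) (.nd .nil (.nd (.nd (.lf (.wit [6, 5] [57, 57])) (.lf (.wit [6, 2, 1] [57, 57]))) (.nd (.lf (.wit [6, 2, 1] [57, 57])) (.lf (.wit [6, 2, 1] [57, 57]))))))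

theorem k4 : chkCand DD ap iv bsL 3 126 [2, 3] cd4 4 = true := by decide +kernel

/-- The candidates of a coset. -/
def cd5 : CT :=
  (.nd (.nd (.nd (.lf (.wit [6, 2, 1] [57, 57])) (.lf (.wit [4, 6] [57, 57]))) (.nd (.lf (.wit [3, 6] [57, 57])) (.lf (.wit [3, 6] [57, 57])))) (.nd (.nd (.lf (.wit [3, 6] [57, 57])) (.lf (.wit [4, 6] [57, 57]))) (.nd (.lf (.wit [4, 6] [57, 57])) (.lf (.wit [6, 2, 1] [57, 57])))))

theorem k5 : chkCand DD ap iv bsL 3 126 [2, 3] cd5 5 = true := by decide +kernel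

end Cfsg.Agent.TcChain36.Out.LM22
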